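import Cfsg.Agent.Lib.H16.U62M.C2.Data

set_option autoImplicit false
set_option maxRecDepth 100000

/-! # Word lists of the monomial certificate (generated) -/

namespace Cfsg.Agent.Lib.H16.U62M.C2

open Cfsg.Agent.Lib.H17.CosetCert (BT WT)
open Cfsg.Agent.Lib.H17.MonoCert
open Cfsg.Agent.Lib.H16.G24M

/-- the exact relators -/
def exactL : List (List ℕ) := [[0, 0, 0, 0, 0, 0, 0, 0, 0, 0, 0], [2, 2, 2, 2, 2, 2, 2, 2, 2, 2, 2], [4, 4, 4, 4, 4, 4, 4, 4, 4, 4, 4], [0, 2, 0, 2, 0, 2, 0, 2], [0, 3, 0, 3, 0, 3, 0, 3, 0, 3], [0, 2, 1, 3, 0, 2, 1, 3, 0, 2, 1, 3], [0, 0, 0, 0, 2, 2, 1, 1, 3, 3, 3, 3, 0, 3], [0, 0, 0, 0, 3, 0, 3, 3, 3, 3, 1, 1, 2, 2], [0, 0, 0, 2, 1, 2, 1, 2, 1,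 3, 3, 3, 1, 1, 2, 2], [0, 0, 0, 2, 2, 1, 1, 3, 3, 3, 1, 2, 1, 2, 1, 2], [0, 0, 2, 0, 2, 0, 2, 0, 0, 3, 0, 3, 0, 3, 0, 3], [0, 0, 2, 0, 2, 0, 2, 2, 0, 3, 1, 2, 0, 3, 1, 2], [0, 0, 2, 1, 3, 0, 2, 1, 3, 0, 2, 2, 0, 2, 0, 2], [0, 0, 2, 1, 3, 3, 1, 1, 3, 3, 1, 2, 0, 0, 2, 2], [0, 0, 3, 1, 2, 1, 2, 0, 3, 3, 0, 2, 1, 2, 1, 3], [0, 2, 0, 2, 0, 2, 2, 1, 2, 1, 2, 1, 2, 1, 2, 2], [0, 0, 0, 0, 0, 0, 0, 0, 0, 0, 3, 1, 3, 1, 3, 1, 3], [0, 0, 0, 0, 0, 0, 0, 2, 1, 2, 2, 2, 2, 0, 0, 3, 3], [0, 0, 0, 0, 0, 0, 0, 3, 3, 0, 0, 2, 2, 2, 2, 1, 2], [0, 0, 0, 0, 2, 2, 1, 1, 2, 2, 2, 2, 2, 2, 2, 0, 3], [0, 0, 0, 0, 3, 0, 2, 2, 2, 2, 2, 2, 2, 1, 1, 2, 2], [0, 2, 0, 2, 0, 2, 0, 3, 3, 3, 3, 3, 3,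 3, 3, 3, 3], [0, 0, 0, 0, 0, 2, 1, 3, 1, 2, 0, 2, 1, 3, 3, 3, 3, 3], [0, 0, 0, 0, 0, 3, 3, 3, 3, 3, 1, 2, 0, 2, 1, 3, 1, 2], [0, 0, 0, 0, 2, 2, 1, 2, 0, 2, 0, 2, 0, 3, 3, 3, 0, 3], [0, 0, 0, 0, 3, 0, 3, 3, 3, 0, 2, 0, 2, 0, 2, 1, 2, 2], [0, 0, 0, 2, 0, 2, 1, 1, 2, 1, 1, 1, 3, 1, 3, 0, 0, 3], [0, 0, 0, 2, 0, 2, 1, 1, 2, 1, 1, 2, 0, 2, 0, 0, 0, 3], [0, 0, 0, 3, 0, 3, 3, 3, 3, 1, 1, 2, 1, 3, 1, 3, 1, 3], [0, 0, 0, 3, 1, 3, 1, 3, 1, 2, 1, 1, 3, 3, 3, 3, 0, 3], [0, 0, 2, 1, 3, 1, 2, 1, 2, 1, 3, 1, 2, 0, 0, 3, 0, 3], [0, 0, 2, 1, 3, 3, 0, 3, 0, 3, 3, 1, 2, 0, 0, 3, 0, 3], [0, 0, 3, 0, 0, 3, 0, 0, 3, 0, 0, 3, 0, 0, 3, 0, 0, 3], [0, 0, 3, 0, 3, 0, 3, 0, 3, 3, 0, 2, 1, 3, 0, 2,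 1, 3], [0, 0, 3, 0, 3, 0, 3, 3, 0, 0, 3, 1, 2, 1, 2, 0, 3, 3], [0, 0, 3, 1, 2, 0, 3, 1, 2, 0, 3, 3, 0, 3, 0, 3, 0, 3], [0, 0, 3, 3, 0, 2, 1, 2, 1, 3, 0, 0, 3, 3, 0, 3, 0, 3], [0, 2, 0, 2, 2, 2, 1, 2, 2, 1, 3, 1, 3, 3, 3, 0, 3, 3], [0, 2, 0, 2, 2, 2, 1, 2, 2, 2, 0, 2, 0, 3, 3, 0, 3, 3], [0, 2, 0, 3, 0, 3, 0, 2, 0, 3, 1, 3, 0, 3, 0, 3, 1, 3], [0, 2, 1, 2, 1, 2, 0, 2, 1, 3, 3, 0, 3, 0, 3, 3, 1, 2], [0, 3, 3, 0, 3, 3, 0, 3, 3, 0, 3, 3, 0, 3, 3, 0, 3, 3], [0, 0, 0, 0, 0, 0, 0, 0, 0, 0, 2, 1, 2, 1, 2, 1, 2, 1, 2], [0, 0, 0, 0, 0, 0, 2, 2, 2, 2, 2, 0, 3, 1, 3, 0, 2, 0, 3], [0, 0, 0, 0, 0, 0, 3, 0, 2, 0, 3, 1, 3, 0, 2, 2, 2, 2, 2], [0, 0, 0, 0, 0, 2, 1, 3, 1, 2, 0, 2, 1, 2, 2,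 2, 2, 2, 2], [0, 0, 0, 0, 0, 2, 2, 2, 2, 2, 2, 1, 2, 0, 2, 1, 3, 1, 2], [0, 2, 2, 2, 2, 2, 2, 2, 2, 2, 2, 0, 3, 0, 3, 0, 3, 0, 3], [0, 0, 0, 0, 0, 0, 0, 2, 1, 3, 3, 3, 3, 3, 3, 3, 0, 0, 3, 3], [0, 0, 0, 0, 0, 0, 0, 3, 3, 0, 0, 3, 3, 3, 3, 3, 3, 3, 1, 2], [0, 0, 0, 0, 0, 2, 0, 2, 0, 2, 0, 0, 3, 3, 3, 3, 1, 1, 2, 2], [0, 0, 0, 0, 0, 2, 1, 3, 1, 1, 3, 1, 3, 1, 1, 3, 3, 3, 3, 3], [0, 0, 0, 0, 0, 2, 2, 0, 2, 0, 2, 2, 0, 2, 1, 3, 3, 3, 3, 3], [0, 0, 0, 0, 0, 2, 2, 1, 1, 3, 3, 3, 3, 0, 0, 2, 0, 2, 0, 2], [0, 0, 0, 0, 0, 3, 3, 3, 3, 3, 1, 1, 3, 1, 3, 1, 1, 3, 1, 2], [0, 0, 0, 0, 0, 3, 3, 3, 3, 3, 1, 2, 0, 2, 2, 0, 2, 0, 2, 2], [0, 0, 0, 0, 2, 0, 3, 0, 3, 0, 3, 0, 3, 1, 3, 3, 3,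 3, 0, 3], [0, 0, 0, 0, 2, 1, 3, 1, 3, 1, 3, 1, 1, 1, 3, 3, 3, 3, 0, 3], [0, 0, 0, 0, 2, 2, 0, 0, 3, 0, 3, 3, 3, 3, 1, 1, 3, 3, 0, 3], [0, 0, 0, 0, 2, 2, 1, 1, 1, 2, 1, 1, 1, 1, 3, 3, 0, 0, 0, 3], [0, 0, 0, 0, 2, 2, 1, 1, 3, 0, 2, 0, 2, 0, 2, 0, 3, 3, 0, 3], [0, 0, 0, 0, 2, 2, 1, 1, 3, 3, 0, 2, 0, 2, 0, 2, 0, 3, 0, 3], [0, 0, 0, 0, 2, 2, 1, 1, 3, 3, 3, 3, 3, 1, 3, 1, 3, 1, 3, 3], [0, 0, 0, 0, 2, 2, 2, 0, 2, 0, 2, 0, 2, 1, 3, 3, 3, 3, 0, 3], [0, 0, 0, 0, 3, 0, 0, 2, 0, 2, 0, 2, 0, 3, 3, 3, 1, 1, 2, 2], [0, 0, 0, 0, 3, 0, 3, 0, 2, 0, 2, 0, 2, 0, 3, 3, 1, 1, 2, 2], [0, 0, 0, 0, 3, 0, 3, 3, 0, 2, 0, 2, 0, 2, 0, 3, 1, 1, 2, 2], [0, 0, 0, 0, 3, 0, 3, 3, 1, 1, 3, 3, 3, 3, 0, 3,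 0, 0, 2, 2], [0, 0, 0, 0, 3, 0, 3, 3, 3, 3, 1, 1, 1, 3, 1, 3, 1, 3, 1, 2], [0, 0, 0, 0, 3, 0, 3, 3, 3, 3, 1, 2, 0, 2, 0, 2, 0, 2, 2, 2], [0, 0, 0, 0, 3, 0, 3, 3, 3, 3, 1, 3, 0, 3, 0, 3, 0, 3, 0, 2], [0, 0, 0, 0, 3, 3, 1, 3, 1, 3, 1, 3, 3, 3, 3, 3, 1, 1, 2, 2], [0, 0, 0, 2, 0, 2, 0, 2, 2, 1, 2, 0, 3, 3, 0, 2, 1, 2, 1, 3], [0, 0, 0, 2, 1, 2, 1, 2, 1, 3, 3, 0, 2, 0, 2, 0, 2, 1, 2, 2], [0, 0, 0, 2, 2, 1, 1, 3, 3, 3, 3, 0, 3, 3, 1, 3, 1, 3, 1, 3], [0, 0, 0, 2, 2, 1, 2, 0, 2, 0, 2, 0, 3, 3, 1, 2, 1, 2, 1, 2], [0, 0, 0, 3, 1, 2, 1, 2, 0, 3, 3, 0, 2, 1, 2, 2, 0, 2, 0, 2], [0, 0, 0, 3, 1, 3, 1, 3, 1, 3, 3, 0, 3, 3, 3, 3, 1, 1, 2, 2], [0, 0, 2, 0, 2, 0, 0, 2, 0, 3, 0, 3, 0, 2, 0,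 3, 1, 3, 0, 3], [0, 0, 2, 0, 2, 0, 0, 3, 0, 3, 1, 3, 0, 2, 0, 3, 0, 3, 0, 2], [0, 0, 2, 0, 2, 0, 2, 1, 1, 3, 3, 0, 0, 2, 2, 2, 0, 3, 0, 3], [0, 0, 2, 0, 2, 0, 2, 2, 2, 1, 3, 0, 3, 0, 2, 1, 1, 2, 0, 3], [0, 0, 2, 0, 2, 1, 3, 0, 2, 0, 2, 1, 3, 1, 3, 0, 2, 2, 0, 2], [0, 0, 2, 0, 2, 1, 3, 0, 2, 0, 2, 2, 0, 2, 0, 0, 2, 2, 0, 2], [0, 0, 2, 0, 2, 1, 3, 0, 2, 2, 0, 2, 0, 3, 1, 1, 3, 0, 2, 2], [0, 0, 2, 0, 2, 1, 3, 1, 3, 3, 1, 1, 3, 1, 3, 3, 1, 3, 1, 2], [0, 0, 2, 0, 2, 1, 3, 1, 3, 3, 1, 2, 0, 2, 0, 0, 2, 0, 2, 2], [0, 0, 2, 0, 2, 1, 3, 1, 3, 3, 1, 2, 0, 2, 0, 3, 1, 3, 1, 2], [0, 0, 2, 0, 2, 1, 3, 3, 1, 1, 3, 0, 2, 0, 2, 2, 0, 0, 2, 2], [0, 0, 2, 0, 2, 1, 3, 3, 1, 1, 3, 3, 1, 3,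 1, 2, 0, 0, 2, 2], [0, 0, 2, 0, 2, 1, 3, 3, 1, 2, 0, 0, 2, 1, 3, 1, 3, 3, 1, 2], [0, 0, 2, 0, 2, 1, 3, 3, 1, 2, 0, 0, 2, 2, 0, 2, 0, 3, 1, 2], [0, 0, 2, 0, 2, 1, 3, 3, 1, 3, 1, 2, 0, 2, 0, 0, 2, 2, 0, 2], [0, 0, 2, 0, 2, 2, 0, 0, 2, 0, 2, 2, 0, 0, 2, 1, 3, 0, 2, 2], [0, 0, 2, 0, 2, 2, 0, 0, 2, 0, 2, 2, 0, 2, 0, 3, 1, 2, 0, 2], [0, 0, 2, 0, 2, 2, 0, 0, 2, 1, 3, 0, 2, 2, 0, 3, 1, 3, 1, 2], [0, 0, 2, 0, 2, 2, 0, 2, 0, 3, 1, 1, 3, 1, 3, 0, 2, 0, 2, 2], [0, 0, 2, 0, 2, 2, 0, 2, 0, 3, 1, 2, 0, 2, 0, 3, 1, 3, 1, 2], [0, 0, 2, 0, 2, 2, 0, 3, 1, 3, 1, 2, 0, 0, 2, 1, 3, 0, 2, 2], [0, 0, 2, 0, 2, 2, 0, 3, 1, 3, 1, 2, 0, 2, 0, 3, 1, 2, 0, 2], [0, 0, 2, 1, 2, 1, 2, 1, 3, 3, 3, 1, 1,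 2, 1, 3, 1, 3, 1, 3], [0, 0, 2, 1, 3, 0, 2, 0, 2, 2, 0, 0, 2, 1, 3, 3, 1, 2, 0, 2], [0, 0, 2, 1, 3, 0, 2, 2, 0, 3, 1, 1, 3, 0, 2, 1, 3, 3, 1, 2], [0, 0, 2, 1, 3, 0, 2, 2, 0, 3, 1, 3, 1, 2, 0, 3, 1, 3, 1, 2], [0, 0, 2, 1, 3, 1, 2, 1, 2, 2, 0, 2, 0, 2, 2, 0, 0, 3, 0, 3], [0, 0, 2, 1, 3, 1, 3, 0, 2, 0, 2, 1, 3, 0, 2, 0, 2, 2, 0, 2], [0, 0, 2, 1, 3, 1, 3, 0, 2, 1, 3, 1, 3, 0, 2, 2, 0, 3, 1, 2], [0, 0, 2, 1, 3, 1, 3, 0, 2, 2, 0, 2, 0, 0, 2, 2, 0, 3, 1, 2], [0, 0, 2, 1, 3, 1, 3, 0, 2, 2, 0, 3, 1, 2, 0, 0, 2, 2, 0, 2], [0, 0, 2, 1, 3, 1, 3, 1, 3, 0, 2, 1, 3, 3, 1, 1, 3, 3, 1, 2], [0, 0, 2, 1, 3, 1, 3, 1, 3, 3, 1, 1, 3, 3, 1, 1, 3, 0, 2, 2], [0, 0, 2, 1, 3, 1, 3, 3, 1, 1, 3, 3,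 1, 2, 0, 2, 0, 0, 2, 2], [0, 0, 2, 1, 3, 3, 1, 1, 3, 1, 3, 0, 2, 1, 3, 3, 1, 3, 1, 2], [0, 0, 2, 1, 3, 3, 1, 1, 3, 3, 1, 2, 0, 3, 1, 3, 1, 3, 1, 2], [0, 0, 2, 1, 3, 3, 1, 2, 0, 2, 0, 0, 2, 1, 3, 3, 1, 3, 1, 2], [0, 0, 2, 2, 0, 2, 0, 0, 2, 2, 0, 2, 0, 0, 2, 2, 0, 3, 1, 2], [0, 0, 2, 2, 0, 2, 0, 2, 2, 1, 2, 1, 3, 1, 2, 0, 0, 3, 0, 3], [0, 0, 2, 2, 1, 1, 3, 3, 3, 1, 2, 1, 2, 1, 1, 3, 1, 3, 1, 3], [0, 0, 2, 2, 2, 2, 1, 2, 1, 1, 2, 0, 2, 0, 2, 0, 2, 1, 3, 3], [0, 0, 2, 2, 2, 2, 1, 2, 2, 2, 1, 1, 3, 3, 3, 3, 0, 3, 3, 3], [0, 0, 3, 0, 2, 0, 2, 0, 2, 1, 1, 3, 0, 3, 0, 3, 0, 2, 2, 2], [0, 0, 3, 0, 2, 1, 1, 2, 0, 3, 0, 3, 1, 2, 2, 2, 0, 2, 0, 2], [0, 0, 3, 0, 3, 0, 3, 3, 0, 0, 3,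 3, 0, 3, 0, 3, 0, 0, 3, 3], [0, 0, 3, 0, 3, 3, 0, 0, 3, 0, 3, 3, 0, 3, 0, 0, 3, 3, 0, 3], [0, 0, 3, 1, 2, 0, 3, 1, 2, 1, 2, 0, 3, 0, 3, 1, 2, 2, 1, 3], [0, 0, 3, 1, 2, 1, 2, 0, 3, 0, 3, 1, 2, 0, 3, 1, 2, 2, 1, 3], [0, 0, 3, 1, 2, 2, 1, 3, 0, 2, 1, 3, 0, 3, 0, 2, 1, 2, 1, 3], [0, 0, 3, 1, 3, 1, 3, 1, 3, 0, 2, 2, 1, 1, 3, 3, 3, 3, 0, 3], [0, 0, 3, 3, 0, 0, 3, 3, 0, 0, 3, 3, 0, 0, 3, 3, 0, 0, 3, 3], [0, 2, 0, 2, 2, 0, 2, 1, 2, 1, 2, 0, 2, 1, 3, 1, 2, 1, 2, 2], [0, 2, 0, 2, 2, 1, 2, 1, 3, 1, 2, 0, 2, 1, 2, 1, 2, 0, 2, 2], [0, 2, 0, 3, 0, 3, 1, 3, 0, 3, 0, 2, 0, 3, 0, 3, 1, 3, 0, 3]]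

/-- the inverse pair words -/
def pairL : List (List ℕ) := [[0, 1], [1, 0], [2, 3], [3, 2], [4, 5], [5, 4]]

/-- the symbol relators -/
def symL : List (List ℕ) := [[0, 4, 0, 4], [4, 3, 0, 2, 0, 2, 2, 5, 1, 3, 3, 1, 3, 1, 2, 0], [0, 0, 0, 5, 3, 0, 0, 3, 0, 0, 0, 5, 3, 0, 0, 3], [4, 1, 2, 1, 3, 1, 3, 3, 0, 5, 1, 1, 2, 2, 0, 2, 0, 3, 0, 0], [4, 3, 1, 1, 3, 1, 3, 0, 2, 5, 1, 3, 1, 2, 0, 2, 0, 0, 2, 0], [0, 2, 0, 2, 2, 1, 2, 5, 0, 2, 1, 3, 4, 3, 3, 1, 3, 3], [4, 0, 2, 0, 3, 1, 2, 1, 3, 5, 3, 0, 3, 3, 1, 3, 0, 2, 2, 1, 1], [4, 1, 2, 2, 2, 1, 1, 2, 0, 0, 3, 5, 0, 3, 0, 2, 1, 2, 2, 2, 1, 1], [4, 2, 0, 3, 3, 0, 0, 0, 3, 1, 2, 5, 3, 3, 0, 0, 0, 2, 0, 3, 0, 2], [0, 2, 0, 2, 5,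 3, 1, 2, 0, 4, 3, 1, 3, 4, 3, 0, 2, 4], [0, 2, 0, 3, 3, 5, 0, 3, 5, 2, 1, 3, 5, 2, 5, 2, 5, 2]]

/-- the other central relators -/
def cenL : List (List ℕ) := []

/-- the unit vectors -/
def unitL : List (List ℕ) := [[1, 0, 0, 0, 0, 0, 0, 0, 0, 0, 0], [0, 1, 0, 0, 0, 0, 0, 0, 0, 0, 0], [0, 0, 1, 0, 0, 0, 0, 0, 0, 0, 0], [0, 0, 0, 1, 0, 0, 0, 0, 0, 0, 0], [0, 0, 0, 0, 1, 0, 0, 0, 0, 0, 0], [0, 0, 0, 0, 0, 1, 0, 0, 0, 0, 0], [0, 0, 0, 0, 0, 0, 1, 0, 0, 0, 0], [0, 0, 0, 0, 0, 0, 0, 1, 0, 0, 0], [0, 0, 0, 0, 0, 0, 0, 0, 1, 0, 0], [0, 0, 0, 0, 0, 0, 0, 0, 0, 1, 0], [0, 0, 0, 0, 0, 0, 0, 0, 0, 0, 1]]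

theorem seed_cases : ∀ p ∈ seedL, (p.2 = List.replicate 11 0 ∧ p.1 ∈ exactL ++ pairL) ∨
    p ∈ List.zip symL unitL := by
  decide +kernel

theorem rel_cases : ∀ w ∈ relL, w ∈ exactL ++ pairL ∨ w ∈ symL ++ cenL := by
  decide +kernel

/-- the pairs of words giving the relations, with the difference of their twists -/
def relPairs : List (ℕ × ℕ × List ℕ) := [(9, 151, [0, 0, 0, 0, 0, 0, 1, 0, 0, 0, 0]), (24, 152, [0, 0, 0, 0, 0, 1, 0, 0, 0, 0, 0]), (3, 153, [0, 2, 0, 0, 0, 0, 0, 0, 0, 0, 0]), (5, 154, [0, 0, 0, 2, 0, 0, 0, 0, 0, 0, 0]), (5, 155, [0, 0, 0, 0, 2, 0, 0, 0, 0, 0, 0]), (29, 156, [0, 1, 0, 0, 23887871, 0, 0, 0, 0, 0, 0]), (5, 157, [2, 0, 0, 0, 0, 0, 0, 0, 0,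 23887870, 0]), (17, 158, [23887871, 0, 23887871, 0, 0, 1, 0, 0, 2, 0, 0]), (101, 159, [23887871, 0, 23887871, 0, 0, 0, 23887871, 0, 23887870, 0, 0]), (53, 160, [23887871, 23887869, 23887871, 0, 0, 0, 1, 0, 0, 0, 0]), (38, 161, [23887871, 23887867, 23887871, 0, 0, 0, 2, 2, 2, 0, 0]), (41, 162, [0, 23887869, 1, 0, 23887869, 0, 23887866, 0, 23887870, 1, 0]), (100, 163, [2, 0, 2, 0, 0, 6, 23887866, 23887870, 0, 0, 0]), (96, 164, [23887871, 23887869, 23887871, 23887871, 23887871, 23887851, 0, 2, 0, 0, 0]), (149, 165, [23887861, 23887478, 23887863, 18, 18, 23887698, 384, 11, 23887592, 23887871, 1]), (148, 166, [23887870, 23887080, 12, 23887871, 9, 328, 295, 23887788, 82, 23887871,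 23887866])]

/-- check of a relation pair: same relator word, twists differing by `v` -/
noncomputable def relChk (p : ℕ × ℕ × List ℕ) : Bool :=
  match WT.get words p.1, WT.get words p.2.1 with
  | some (wd1, true), some (wd2, true) => decide (wd1 = wd2) && decide (Ev p.2.1 = nadd NN (Ev p.1) p.2.2) &&
      decide (p.1 < 167) && decide (p.2.1 < 167)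
  | _, _ => false

theorem rel_chk : ∀ p ∈ relPairs, relChk p = true := by
  decide +kernel

end Cfsg.Agent.Lib.H16.U62M.C2
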