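import Cfsg.Agent.Lib.H16.G24M.ModTw

set_option autoImplicit false
set_option maxRecDepth 100000
set_option maxHeartbeats 4000000

/-! # The relations among the twist symbols (generated) -/

namespace Cfsg.Agent.Lib.H16.U62M.C2

theorem rel_alg_add {M : Type*} [AddCommGroup M] (a0 a1 a2 a3 a4 a5 a6 a7 a8 a9 a10 : M)
    (n0 : (23887872 : ℤ) • a0 = 0)
    (n1 : (23887872 : ℤ) • a1 = 0)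
    (n2 : (23887872 : ℤ) • a2 = 0)
    (n3 : (23887872 : ℤ) • a3 = 0)
    (n4 : (23887872 : ℤ) • a4 = 0)
    (n5 : (23887872 : ℤ) • a5 = 0)
    (n6 : (23887872 : ℤ) • a6 = 0)
    (n7 : (23887872 : ℤ) • a7 = 0)
    (n8 : (23887872 : ℤ) • a8 = 0)
    (n9 : (23887872 : ℤ) • a9 = 0)
    (n10 : (23887872 : ℤ) • a10 = 0)
    (h0 : (0 : ℤ) • a0 + ((0 : ℤ) • a1 + ((0 : ℤ) • a2 + ((0 : ℤ) • a3 + ((0 : ℤ) • a4 + ((0 : ℤ) • a5 + ((1 : ℤ) • a6 + ((0 : ℤ) • a7 + ((0 : ℤ) • a8 + ((0 : ℤ) • a9 + ((0 : ℤ) • a10 + 0)))))))))) = 0)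
    (h1 : (0 : ℤ) • a0 + ((0 : ℤ) • a1 + ((0 : ℤ) • a2 + ((0 : ℤ) • a3 + ((0 : ℤ) • a4 + ((1 : ℤ) • a5 + ((0 : ℤ) • a6 + ((0 : ℤ) • a7 + ((0 : ℤ) • a8 + ((0 : ℤ) • a9 + ((0 : ℤ) • a10 + 0)))))))))) = 0)
    (h2 : (0 : ℤ) • a0 + ((2 : ℤ) • a1 + ((0 : ℤ) • a2 + ((0 : ℤ) • a3 + ((0 : ℤ) • a4 + ((0 : ℤ) • a5 + ((0 : ℤ) • a6 + ((0 : ℤ) • a7 + ((0 : ℤ) • a8 + ((0 : ℤ) • a9 + ((0 : ℤ) • a10 + 0)))))))))) = 0)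
    (h3 : (0 : ℤ) • a0 + ((0 : ℤ) • a1 + ((0 : ℤ) • a2 + ((2 : ℤ) • a3 + ((0 : ℤ) • a4 + ((0 : ℤ) • a5 + ((0 : ℤ) • a6 + ((0 : ℤ) • a7 + ((0 : ℤ) • a8 + ((0 : ℤ) • a9 + ((0 : ℤ) • a10 + 0)))))))))) = 0)
    (h4 : (0 : ℤ) • a0 + ((0 : ℤ) • a1 + ((0 : ℤ) • a2 + ((0 : ℤ) • a3 + ((2 : ℤ) • a4 + ((0 : ℤ) • a5 + ((0 : ℤ) • a6 + ((0 : ℤ) • a7 + ((0 : ℤ) • a8 + ((0 : ℤ) • a9 + ((0 : ℤ) • a10 + 0)))))))))) = 0)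
    (h5 : (0 : ℤ) • a0 + ((1 : ℤ) • a1 + ((0 : ℤ) • a2 + ((0 : ℤ) • a3 + ((23887871 : ℤ) • a4 + ((0 : ℤ) • a5 + ((0 : ℤ) • a6 + ((0 : ℤ) • a7 + ((0 : ℤ) • a8 + ((0 : ℤ) • a9 + ((0 : ℤ) • a10 + 0)))))))))) = 0)
    (h6 : (2 : ℤ) • a0 + ((0 : ℤ) • a1 + ((0 : ℤ) • a2 + ((0 : ℤ) • a3 + ((0 : ℤ) • a4 + ((0 : ℤ) • a5 + ((0 : ℤ) • a6 + ((0 : ℤ) • a7 + ((0 : ℤ) • a8 + ((23887870 : ℤ) • a9 + ((0 : ℤ) • a10 + 0)))))))))) = 0)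
    (h7 : (23887871 : ℤ) • a0 + ((0 : ℤ) • a1 + ((23887871 : ℤ) • a2 + ((0 : ℤ) • a3 + ((0 : ℤ) • a4 + ((1 : ℤ) • a5 + ((0 : ℤ) • a6 + ((0 : ℤ) • a7 + ((2 : ℤ) • a8 + ((0 : ℤ) • a9 + ((0 : ℤ) • a10 + 0)))))))))) = 0)
    (h8 : (23887871 : ℤ) • a0 + ((0 : ℤ) • a1 + ((23887871 : ℤ) • a2 + ((0 : ℤ) • a3 + ((0 : ℤ) • a4 + ((0 : ℤ) • a5 + ((23887871 : ℤ) • a6 + ((0 : ℤ) • a7 + ((23887870 : ℤ) • a8 + ((0 : ℤ) • a9 + ((0 : ℤ) • a10 + 0)))))))))) = 0)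
    (h9 : (23887871 : ℤ) • a0 + ((23887869 : ℤ) • a1 + ((23887871 : ℤ) • a2 + ((0 : ℤ) • a3 + ((0 : ℤ) • a4 + ((0 : ℤ) • a5 + ((1 : ℤ) • a6 + ((0 : ℤ) • a7 + ((0 : ℤ) • a8 + ((0 : ℤ) • a9 + ((0 : ℤ) • a10 + 0)))))))))) = 0)
    (h10 : (23887871 : ℤ) • a0 + ((23887867 : ℤ) • a1 + ((23887871 : ℤ) • a2 + ((0 : ℤ) • a3 + ((0 : ℤ) • a4 + ((0 : ℤ) • a5 + ((2 : ℤ) • a6 + ((2 : ℤ) • a7 + ((2 : ℤ) • a8 + ((0 : ℤ) • a9 + ((0 : ℤ) • a10 + 0)))))))))) = 0)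
    (h11 : (0 : ℤ) • a0 + ((23887869 : ℤ) • a1 + ((1 : ℤ) • a2 + ((0 : ℤ) • a3 + ((23887869 : ℤ) • a4 + ((0 : ℤ) • a5 + ((23887866 : ℤ) • a6 + ((0 : ℤ) • a7 + ((23887870 : ℤ) • a8 + ((1 : ℤ) • a9 + ((0 : ℤ) • a10 + 0)))))))))) = 0)
    (h12 : (2 : ℤ) • a0 + ((0 : ℤ) • a1 + ((2 : ℤ) • a2 + ((0 : ℤ) • a3 + ((0 : ℤ) • a4 + ((6 : ℤ) • a5 + ((23887866 : ℤ) • a6 + ((23887870 : ℤ) • a7 + ((0 : ℤ) • a8 + ((0 : ℤ) • a9 + ((0 : ℤ) • a10 + 0)))))))))) = 0)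
    (h13 : (23887871 : ℤ) • a0 + ((23887869 : ℤ) • a1 + ((23887871 : ℤ) • a2 + ((23887871 : ℤ) • a3 + ((23887871 : ℤ) • a4 + ((23887851 : ℤ) • a5 + ((0 : ℤ) • a6 + ((2 : ℤ) • a7 + ((0 : ℤ) • a8 + ((0 : ℤ) • a9 + ((0 : ℤ) • a10 + 0)))))))))) = 0)
    (h14 : (23887861 : ℤ) • a0 + ((23887478 : ℤ) • a1 + ((23887863 : ℤ) • a2 + ((18 : ℤ) • a3 + ((18 : ℤ) • a4 + ((23887698 : ℤ) • a5 + ((384 : ℤ) • a6 + ((11 : ℤ) • a7 + ((23887592 : ℤ) • a8 + ((23887871 : ℤ) • a9 + ((1 : ℤ) • a10 + 0)))))))))) = 0)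
    (h15 : (23887870 : ℤ) • a0 + ((23887080 : ℤ) • a1 + ((12 : ℤ) • a2 + ((23887871 : ℤ) • a3 + ((9 : ℤ) • a4 + ((328 : ℤ) • a5 + ((295 : ℤ) • a6 + ((23887788 : ℤ) • a7 + ((82 : ℤ) • a8 + ((23887871 : ℤ) • a9 + ((23887866 : ℤ) • a10 + 0)))))))))) = 0)
    : (3 : ℤ) • a0 = 0 ∧ (2 : ℤ) • a8 = 0 ∧ (2 : ℤ) • a10 = 0 ∧ a1 = 0 ∧ a3 = 0 ∧ a4 = 0 ∧ a5 = 0 ∧ a6 = 0 ∧ a2 = (2 : ℤ) • a0 ∧ a7 = a10 ∧ a9 = a0 := by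
  refine ⟨?_, ?_, ?_, ?_, ?_, ?_, ?_, ?_, ?_, ?_, ?_⟩
  · linear_combination (norm := module) (-6515455 : ℤ) • n0 + (-13035843 : ℤ) • n1 + (-7239330 : ℤ) • n2 + (-5067130 : ℤ) • n3 + (-1466030 : ℤ) • n4 + (-1447775 : ℤ) • n5 + (-16466112 : ℤ) • n6 + (1448031 : ℤ) • n7 + (-12847145 : ℤ) • n8 + (11219490 : ℤ) • n9 + (723875 : ℤ) • n10 + (11037101 : ℤ) • h0 + (546198 : ℤ) • h1 + (-6152927 : ℤ) • h3 + (-10123960 : ℤ) • h4 + (-10840989 : ℤ) • h5 + (-6152366 : ℤ) • h6 + (-10678615 : ℤ) • h7 + (10674334 : ℤ) • h8 + (6881956 : ℤ) • h9 + (-1086105 : ℤ) • h10 + (6516015 : ℤ) • h11 + (-724157 : ℤ) • h12 + (5791009 : ℤ) • h13 + (-4343250 : ℤ) • h14 + (-723875 : ℤ) • h15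
  · linear_combination (norm := module) (2 : ℤ) • n0 + (21 : ℤ) • n1 + (2 : ℤ) • n2 + (67 : ℤ) • n4 + (-5971974 : ℤ) • n6 + (-5971972 : ℤ) • n8 + (2 : ℤ) • n9 + (-5971959 : ℤ) • h0 + (5971956 : ℤ) • h1 + (11943898 : ℤ) • h4 + (-64 : ℤ) • h5 + (-2 : ℤ) • h6 + (-5971962 : ℤ) • h7 + (5971978 : ℤ) • h8 + (11943917 : ℤ) • h9 + (-11943935 : ℤ) • h10 + (-4 : ℤ) • h11 + (1 : ℤ) • h12
  · linear_combination (norm := module) (-13029324 : ℤ) • n0 + (-2167401 : ℤ) • n1 + (-14477071 : ℤ) • n2 + (-10134226 : ℤ) • n3 + (-2882040 : ℤ) • n4 + (-2895517 : ℤ) • n5 + (20810150 : ℤ) • n6 + (2895294 : ℤ) • n7 + (28048848 : ℤ) • n8 + (-1447337 : ℤ) • n9 + (1447750 : ℤ) • n10 + (4163650 : ℤ) • h0 + (-4888634 : ℤ) • h1 + (11581982 : ℤ) • h3 + (3611816 : ℤ) • h4 + (2159012 : ℤ) • h5 +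 (11581586 : ℤ) • h6 + (8506662 : ℤ) • h7 + (-8503502 : ℤ) • h8 + (1805908 : ℤ) • h9 + (9772518 : ℤ) • h10 + (-10858948 : ℤ) • h11 + (-1447547 : ℤ) • h12 + (11581982 : ℤ) • h13 + (-8686498 : ℤ) • h14 + (-1447750 : ℤ) • h15
  · linear_combination (norm := module) (1 : ℤ) • n0 + (20 : ℤ) • n1 + (2 : ℤ) • n2 + (64 : ℤ) • n4 + (-5971974 : ℤ) • n6 + (-5971972 : ℤ) • n8 + (-11943933 : ℤ) • n9 + (-5971960 : ℤ) • h0 + (5971957 : ℤ) • h1 + (-36 : ℤ) • h4 + (-60 : ℤ) • h5 + (11943934 : ℤ) • h6 + (-5971963 : ℤ) • h7 + (5971978 : ℤ) • h8 + (11943918 : ℤ) • h9 + (-11943935 : ℤ) • h10 + (-4 : ℤ) • h11 + (1 : ℤ) • h12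
  · linear_combination (norm := module) (21 : ℤ) • n0 + (251 : ℤ) • n1 + (22 : ℤ) • n2 + (775 : ℤ) • n4 + (-1 : ℤ) • n5 + (-86 : ℤ) • n6 + (-12 : ℤ) • n7 + (-74 : ℤ) • n8 + (-11943912 : ℤ) • n9 + (111 : ℤ) • h0 + (-114 : ℤ) • h1 + (-11943935 : ℤ) • h3 + (11943502 : ℤ) • h4 + (-731 : ℤ) • h5 + (11943913 : ℤ) • h6 + (63 : ℤ) • h7 + (120 : ℤ) • h8 + (-217 : ℤ) • h9 + (11 : ℤ) • h10 + (-46 : ℤ) • h11 + (12 : ℤ) • h12 + (1 : ℤ) • h13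
  · linear_combination (norm := module) (1 : ℤ) • n0 + (20 : ℤ) • n1 + (2 : ℤ) • n2 + (65 : ℤ) • n4 + (-5971974 : ℤ) • n6 + (-5971972 : ℤ) • n8 + (-11943933 : ℤ) • n9 + (-5971960 : ℤ) • h0 + (5971957 : ℤ) • h1 + (-36 : ℤ) • h4 + (-61 : ℤ) • h5 + (11943934 : ℤ) • h6 + (-5971963 : ℤ) • h7 + (5971978 : ℤ) • h8 + (11943918 : ℤ) • h9 + (-11943935 : ℤ) • h10 + (-4 : ℤ) • h11 + (1 : ℤ) • h12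
  · linear_combination (norm := module) (1 : ℤ) • h1
  · linear_combination (norm := module) (1 : ℤ) • h0
  · linear_combination (norm := module) (6515481 : ℤ) • n0 + (13036114 : ℤ) • n1 + (7239355 : ℤ) • n2 + (5067130 : ℤ) • n3 + (1466871 : ℤ) • n4 + (1447775 : ℤ) • n5 + (10494051 : ℤ) • n6 + (-1448043 : ℤ) • n7 + (6875099 : ℤ) • n8 + (724470 : ℤ) • n9 + (-723875 : ℤ) • n10 + (6878920 : ℤ) • h0 + (5425625 : ℤ) • h1 + (6152927 : ℤ) • h3 + (-1820446 : ℤ) • h4 + (10840199 : ℤ) • h5 + (-5791595 : ℤ) • h6 + (4706714 : ℤ) • h7 + (-4702236 : ℤ) • h8 + (5061745 : ℤ) • h9 + (-10857818 : ℤ) • h10 + (-6516065 : ℤ) • h11 + (724170 : ℤ) • h12 + (-5791009 : ℤ) • h13 + (4343250 : ℤ) • h14 + (723875 : ℤ) • h15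
  · linear_combination (norm := module) (6514666 : ℤ) • n0 + (13027686 : ℤ) • n1 + (7238541 : ℤ) • n2 + (5067112 : ℤ) • n3 + (1441179 : ℤ) • n4 + (1447759 : ℤ) • n5 + (-1447143 : ℤ) • n6 + (-1447649 : ℤ) • n7 + (-5066487 : ℤ) • n8 + (-11220261 : ℤ) • n9 + (-723875 : ℤ) • n10 + (-5067790 : ℤ) • h0 + (-6513662 : ℤ) • h1 + (6152945 : ℤ) • h3 + (-1805998 : ℤ) • h4 + (10864280 : ℤ) • h5 + (6153138 : ℤ) • h6 + (-7239303 : ℤ) • h7 + (7237760 : ℤ) • h8 + (5068969 : ℤ) • h9 + (-10858224 : ℤ) • h10 + (-6514472 : ℤ) • h11 + (723776 : ℤ) • h12 + (-5790991 : ℤ) • h13 + (4343249 : ℤ) • h14 + (723875 : ℤ) • h15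
  · linear_combination (norm := module) (-23887881 : ℤ) • n0 + (-125 : ℤ) • n1 + (-23887882 : ℤ) • n2 + (-386 : ℤ) • n4 + (-11943893 : ℤ) • n6 + (6 : ℤ) • n7 + (-11943899 : ℤ) • n8 + (11943924 : ℤ) • n9 + (11943882 : ℤ) • h0 + (-11943869 : ℤ) • h1 + (216 : ℤ) • h4 + (363 : ℤ) • h5 + (-11943925 : ℤ) • h6 + (11943905 : ℤ) • h7 + (11943876 : ℤ) • h8 + (108 : ℤ) • h9 + (-6 : ℤ) • h10 + (23 : ℤ) • h11 + (-6 : ℤ) • h12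

end Cfsg.Agent.Lib.H16.U62M.C2
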