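import Cfsg.Agent.Lib.H16.U62M.C2.RowsP0

set_option autoImplicit false
set_option maxRecDepth 100000

/-! # Final table of the monomial coset enumeration (generated) -/

namespace Cfsg.Agent.Lib.H16.U62M.C2

open Cfsg.Agent.Lib.H17.CosetCert (BT WT)
open Cfsg.Agent.Lib.H17.MonoCert
open Cfsg.Agent.Lib.H16.G24M

/-- all rows -/
def rows : List ℕ := rows0

theorem rows_ok : checkRows F 6 65536 4032 rows 0 = true := rows0_ok

theorem rows_length : rows.length = 672 := rows0_len

end Cfsg.Agent.Lib.H16.U62M.C2
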