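import Cfsg.Agent.Lib.H16.U62M.C2.Steps0
import Cfsg.Agent.Lib.H16.U62M.C2.Steps1

set_option autoImplicit false
set_option maxRecDepth 100000

/-! # Running the monomial certificate, part 0 (generated) -/

namespace Cfsg.Agent.Lib.H16.U62M.C2

open Cfsg.Agent.Lib.H17.CosetCert (BT WT)
open Cfsg.Agent.Lib.H17.MonoCert
open Cfsg.Agent.Lib.H16.G24M

variable {G Q A : Type*} [Group G] [MulAction G Q] [Group A] [MulAction A Q]
  [SMulCommClass G A Q] (tw : List ℕ → A) (γ : ℕ → G)

theorem run0 (hfree : ∀ (α β : A) (q : Q), α • q = β • q → α = β)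
    (htw : TwOK (nadd NN) (List.replicate 11 0) neq tw) (q0 : Q) (hw : WordsOK Ev tw γ q0 words 151) :
    Inv F Ev tw γ q0 words 4032 672 167 := by
  have h0 := inv_zero F Ev tw γ q0 words 151 hw
  have h1 := checkSteps_sound (nadd NN) (List.replicate 11 0) neq F Ev 6 65536 tw γ hfree htw q0 words 151 hw steps0 0 1 151 750 366 151 h0 chk0
  have h2 := checkSteps_sound (nadd NN) (List.replicate 11 0) neq F Ev 6 65536 tw γ hfree htw q0 words 151 hw steps1 750 366 151 1500 672 151 h1 chk1
  have h3 := checkSteps_sound (nadd NN) (List.replicate 11 0) neq F Ev 6 65536 tw γ hfree htw q0 words 151 hw steps2 1500 672 151 2250 672 151 h2 chk2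
  have h4 := checkSteps_sound (nadd NN) (List.replicate 11 0) neq F Ev 6 65536 tw γ hfree htw q0 words 151 hw steps3 2250 672 151 3000 672 151 h3 chk3
  have h5 := checkSteps_sound (nadd NN) (List.replicate 11 0) neq F Ev 6 65536 tw γ hfree htw q0 words 151 hw steps4 3000 672 151 3750 672 151 h4 chk4
  have h6 := checkSteps_sound (nadd NN) (List.replicate 11 0) neq F Ev 6 65536 tw γ hfree htw q0 words 151 hw steps5 3750 672 151 4032 672 167 h5 chk5
  exact h6

end Cfsg.Agent.Lib.H16.U62M.C2
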